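import Cfsg.Agent.Lib.Perm.KPR.Main

/-!
The theorem on `(r+1)`-fold transitive groups of degree `k * p + r`.
-/

set_option autoImplicit false
set_option linter.style.haveILetI false
set_option linter.unusedSectionVars false

namespace CfsgLib.Perm.KPR

open Equiv MulAction

variable {α : Type*} [Fintype α] [DecidableEq α]

theorem not_sharp_case {G : Subgroup (Perm α)} (hn : Fintype.card α = 9)
    (hG : IsMultiplyPretransitive G α 4) : alternatingGroup α ≤ G := by
  classical
  by_cases hs : ∀ g ∈ G, ∀ x : Fin 4 ↪ α, (∀ i, g (x i) = x i) → g = 1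
  · have h : CfsgLib.SharplyK.Sharp G 4 := ⟨fun x y => by
      obtain ⟨g, hg⟩ := hG.exists_smul_eq x y
      exact ⟨g, g.2, fun i => DFunLike.congr_fun hg i⟩, hs⟩
    rcases CfsgLib.SharplyK.jordan_four h (by omega) with e | e | e | e <;> omega
  · push Not at hs
    obtain ⟨g, hg, x, hx, hg1⟩ := hs
    refine (CfsgLib.SmallSupport.contains_alternating (k := 4) (by norm_num) (by omega) hG hg hg1 ?_).2
    have : g.support ⊆ (Finset.univ.map x)ᶜ := by
      intro z hz
      rw [Finset.mem_compl, Finset.mem_map]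
      rintro ⟨i, _, rfl⟩
      exact Perm.mem_support.1 hz (hx i)
    refine lt_of_le_of_lt (Finset.card_le_card this) ?_
    rw [Finset.card_compl, Finset.card_map, Finset.card_univ, Fintype.card_fin, hn]
    norm_num

theorem main {G : Subgroup (Perm α)} {k p r : ℕ} (hp : p.Prime)
    (hn : Fintype.card α = k * p + r) (hk : 1 ≤ k) (hpk : k < p) (hrk : k < r)
    (hex : ¬ (k = 1 ∧ r = 2)) (hG : IsMultiplyPretransitive G α (r + 1)) :
    alternatingGroup α ≤ G := by
  classical
  haveI := hG
  haveI := Fact.mk hp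
  have hr3 : 3 ≤ r := by omega
  have hn' : r + 1 ≤ Fintype.card α := by
    have := Nat.mul_pos hk hp.pos
    omega
  have hpre : IsPreprimitive G α := isPreprimitive_of_is_two_pretransitive
    (isMultiplyPretransitive_of_le (n := r + 1) (by omega) (by rwa [Nat.card_eq_fintype_card]))
  by_cases hsmall : k * p ≤ 3
  · refine _root_.IsMultiplyPretransitive.alternatingGroup_le α G ?_
    refine isMultiplyPretransitive_of_le (n := r + 1) ?_ (by rwa [Nat.card_eq_fintype_card])
    rw [Nat.card_eq_fintype_card]; omega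
  have hp3 : 3 ≤ p := by
    by_contra h
    have : p = 2 := by have := hp.two_le; omega
    subst this
    omega
  by_cases h933 : r = 3 ∧ p = 3
  · obtain ⟨rfl, rfl⟩ := h933
    exact not_sharp_case (by omega) hG
  obtain ⟨F, P, hF, h, hPG, hwitt⟩ := exists_setting hp hn hk hpk hG
  have hnF : Fintype.card α = k * p + F.card := by rw [hF]; exact hn
  by_cases hns : ¬ NoSingle P F
  · simp only [NoSingle, not_forall, exists_prop] at hns
    obtain ⟨v, hv, y, hy, hfix, hv1⟩ := hns
    have hsupp : v.support = orb P y := by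
      refine Finset.Subset.antisymm (fun z hz => by
        by_contra e; exact Perm.mem_support.1 hz (hfix z e)) fun z hz => Perm.mem_support.2 fun e => ?_
      refine hv1 (Equiv.ext fun w => ?_)
      by_cases hw : w ∈ orb P y
      · exact h.fix_orbit (h.not_mem_of_mem_orb hy hz) hv e (by rwa [orb_eq_of_mem hz])
      · exact hfix w hw
    have hsc : v.support.card = p := by rw [hsupp]; exact h.card_orb y hy
    have hvp : v ^ p = 1 := Equiv.ext fun z => by simpa using h.pow_prime_apply hv z
    have ho : orderOf v = p := orderOf_eq_prime hvp hv1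
    have hcyc : v.IsCycle := Perm.isCycle_of_prime_order (by rwa [ho]) (by rw [hsc, ho]; omega)
    exact CfsgLib.Perm.alternatingGroup_le_of_isCycle_prime hpre hp
      (by rw [Nat.card_eq_fintype_card, hn]; nlinarith) hcyc hsc (hPG hv)
  push Not at hns
  obtain ⟨y₀, hy₀⟩ : ∃ y, y ∉ F := by
    by_contra hc
    push Not at hc
    have := Finset.card_le_card (fun y _ => hc y : (Finset.univ : Finset α) ⊆ F)
    rw [Finset.card_univ, hn, hF] at this
    omega
  let N : Subgroup (Perm α) := G ⊓ nP P
  let toF : N →* Perm F :=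
    { toFun := fun g => Perm.subtypePerm g.1 fun y => h.apply_mem_iff g.2.2 y
      map_one' := Equiv.ext fun y => rfl
      map_mul' := fun a b => Equiv.ext fun y => rfl }
  have hsurj : Function.Surjective toF := by
    intro σ
    obtain ⟨g, hg, hgn, hgx⟩ := hwitt σ
    exact ⟨⟨g, hg, hgn⟩, Equiv.ext fun x => Subtype.ext (hgx x)⟩
  let O : Finset (Finset α) := (Fᶜ : Finset α).image (orb P)
  have hOmem : ∀ (g : N) (s : Finset α), s.map g.1.toEmbedding ∈ O ↔ s ∈ O := by
    intro g s
    constructor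
    · intro hs
      obtain ⟨y, hy, e⟩ := Finset.mem_image.1 hs
      refine Finset.mem_image.2 ⟨g.1⁻¹ y, ?_, Finset.map_injective g.1.toEmbedding ?_⟩
      · rw [Finset.mem_compl] at hy ⊢
        intro e'
        exact hy (by simpa using (h.apply_mem_iff g.2.2 _).2 e')
      · rw [image_orb g.2.2, ← e]
        simp
    · intro hs
      obtain ⟨y, hy, rfl⟩ := Finset.mem_image.1 hs
      rw [image_orb g.2.2]
      rw [Finset.mem_compl] at hy
      exact Finset.mem_image_of_mem _ (Finset.mem_compl.2 fun e => hy ((h.apply_mem_iff g.2.2 y).1 e))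
  let toO : N →* Perm O :=
    { toFun := fun g => Perm.subtypePerm (Equiv.finsetCongr g.1) (hOmem g)
      map_one' := Equiv.ext fun s => Subtype.ext (by
        show s.1.map (1 : Perm α).toEmbedding = s.1
        ext z; simp [Perm.one_def])
      map_mul' := fun a b => Equiv.ext fun s => Subtype.ext (by
        show s.1.map (a.1 * b.1).toEmbedding = (s.1.map b.1.toEmbedding).map a.1.toEmbedding
        rw [Finset.map_map]; rfl) }
  have hstable : ∀ g ∈ toO.ker, Stable P F g.1 := by
    intro g hg
    refine ⟨g.2.2, fun y hy => ?_⟩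
    have e := congrArg (fun σ : Perm O => (σ ⟨orb P y, Finset.mem_image_of_mem _
      (Finset.mem_compl.2 hy)⟩).1) (MonoidHom.mem_ker.1 hg)
    have e' : (orb P y).map g.1.toEmbedding = orb P y := e
    rw [image_orb g.2.2] at e'
    exact e' ▸ self_mem_orb _
  let H : Subgroup (Perm F) := toO.ker.map toF
  haveI hHn : H.Normal := (MonoidHom.normal_ker toO).map _ hsurj
  have hHne : H ≠ ⊥ := by
    intro e
    have h1 : H.index ∣ toO.ker.index := Subgroup.index_map_dvd toO.ker hsurj
    rw [e, Subgroup.index_bot, Subgroup.index_ker, Nat.card_perm, Nat.card_eq_fintype_card,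
      Fintype.card_coe, hF] at h1
    have h2 : Nat.card toO.range ≤ k.factorial := by
      refine le_trans (Subgroup.card_le_card_group _) (le_of_eq ?_)
      rw [Nat.card_perm, Nat.card_eq_fintype_card, Fintype.card_coe, h.card_orbits hnF]
    have h3 := Nat.le_of_dvd Nat.card_pos h1
    have h4 : k.factorial < r.factorial := Nat.factorial_lt_of_lt hk hrk
    omega
  obtain ⟨g, hgS, hgc, hg1⟩ : ∃ g : N, Stable P F g.1 ∧ (∀ v ∈ P, Commute g.1 v) ∧
      (toF g) ^ p ≠ 1 := by
    have sq : ∀ (c : Perm F) (e : ℕ), c ^ e = 1 → c ≠ 1 → Nat.Coprime e p → c ^ p ≠ 1 := by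
      intro c e he hc hco hcp
      refine hc (orderOf_eq_one_iff.1 (Nat.eq_one_of_dvd_one ?_))
      rw [← hco]
      exact Nat.dvd_gcd (orderOf_dvd_of_pow_eq_one he) (orderOf_dvd_of_pow_eq_one hcp)
    have hodd : Nat.Coprime 2 p := (Nat.coprime_primes Nat.prime_two hp).2 (by omega)
    rcases le_or_gt 5 r with h5 | h5
    · obtain ⟨a, ha, b, hb, hne, hsq⟩ := large_case (N := H) (hF ▸ h5) hHne
      obtain ⟨x, hx, rfl⟩ := ha
      obtain ⟨x', hx', rfl⟩ := hb
      refine ⟨(x' * x)⁻¹ * (x * x'), ?_, fun v hv => h.conj_commute (hstable x hx) (hstable x' hx') hv,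
        sq _ 2 (by simpa using hsq) (by simpa using hne) hodd⟩
      exact ((hstable x' hx').mul h (hstable x hx)).inv h |>.mul h
        ((hstable x hx).mul h (hstable x' hx'))
    · have hkey : ∀ e : ℕ, Nat.Coprime e p → (∃ y ∈ H, ∃ c : Perm F,
          (c * y * c⁻¹)⁻¹ * y ≠ 1 ∧ ((c * y * c⁻¹)⁻¹ * y) ^ e = 1) →
          ∃ g : N, Stable P F g.1 ∧ (∀ v ∈ P, Commute g.1 v) ∧ (toF g) ^ p ≠ 1 := by
        rintro e he ⟨y, hy, c, hne, hpow⟩
        obtain ⟨x, hx, rfl⟩ := hy
        obtain ⟨u, rfl⟩ := hsurj c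
        have hxs := hstable x hx
        obtain ⟨m, hm⟩ := h.exists_power hns (h.three_orbits hnF (by omega)) hy₀ hxs
        have hconj : u * x * u⁻¹ ∈ toO.ker := (MonoidHom.normal_ker toO).conj_mem x hx u
        refine ⟨(u * x * u⁻¹)⁻¹ * x, ((hstable _ hconj).inv h).mul h hxs, fun v hv => ?_,
          sq _ e (by simpa using hpow) (by simpa using hne) he⟩
        set ha : Perm α := u.1 * x.1 * u.1⁻¹ with hha
        have e1 : ha * v * ha⁻¹ = v ^ m := by
          have hv' : u.1⁻¹ * v * u.1 ∈ P := (mem_nP.1 u.2.2 _).2 (by simpa [mul_assoc] using hv)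
          calc ha * v * ha⁻¹ = u.1 * (x.1 * (u.1⁻¹ * v * u.1) * x.1⁻¹) * u.1⁻¹ := by
                rw [hha]; group
            _ = u.1 * (u.1⁻¹ * v * u.1) ^ m * u.1⁻¹ := by rw [hm _ hv']
            _ = v ^ m := by rw [← conj_pow]; congr 1; group
        have e2 := hm v hv
        show ha⁻¹ * x.1 * v = v * (ha⁻¹ * x.1)
        calc ha⁻¹ * x.1 * v = ha⁻¹ * (x.1 * v * x.1⁻¹) * x.1 := by group
          _ = ha⁻¹ * (ha * v * ha⁻¹) * x.1 := by rw [e2, e1]
          _ = v * (ha⁻¹ * x.1) := by group
      rcases (show r = 3 ∨ r = 4 by omega) with rfl | rfl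
      · exact hkey 3 ((Nat.coprime_primes Nat.prime_three hp).2
          (fun e => h933 ⟨rfl, e.symm⟩)) (small_case hF decide_three hHne)
      · exact hkey 2 hodd (small_case hF decide_four hHne)
  have hq : ∀ y, y ∉ F → ((g.1) ^ p) y = y := fun y hy => h.pow_apply_of_commute hgS hgc hy
  have hq1 : g.1 ^ p ≠ 1 := by
    intro e
    refine hg1 ?_
    rw [← map_pow]
    have : g ^ p = 1 := Subtype.ext (by simpa using e)
    rw [this, map_one]
  refine (CfsgLib.SmallSupport.contains_alternating (k := r + 1) (by omega) hn' hG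
    (G.pow_mem g.2.1 p) hq1 ?_).2
  have : ((g.1) ^ p).support ⊆ F := by
    intro z hz
    by_contra e
    exact Perm.mem_support.1 hz (hq z e)
  have := Finset.card_le_card this
  omega

end CfsgLib.Perm.KPR
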