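import Cfsg.Agent.Lib.Perm.KPR.Orbits
import Cfsg.Agent.Lib.Perm.SmallSupport
import Cfsg.Agent.Lib.Perm.JordanPrime
import Cfsg.Agent.Lib.Perm.SharplyK

/-!
Degree `k * p + r`: an `(r+1)`-fold transitive group contains the alternating group.
-/

set_option autoImplicit false
set_option linter.style.haveILetI false
set_option linter.unusedSectionVars false

namespace CfsgLib.Perm.KPR

open Equiv MulAction

variable {α : Type*} [Fintype α] [DecidableEq α] {p : ℕ} {P : Subgroup (Perm α)} {F : Finset α}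

theorem exists_setting {G : Subgroup (Perm α)} {k r : ℕ} (hp : p.Prime)
    (hn : Fintype.card α = k * p + r) (hk : 1 ≤ k) (hpk : k < p)
    (hG : IsMultiplyPretransitive G α (r + 1)) :
    ∃ (F : Finset α) (P : Subgroup (Perm α)), F.card = r ∧ Setting p P F ∧ P ≤ G ∧
      ∀ σ : Perm F, ∃ g ∈ G, g ∈ nP P ∧ ∀ x : F, g x.1 = (σ x).1 := by
  classical
  haveI := Fact.mk hp
  have hkp : 0 < k * p := Nat.mul_pos hk hp.pos
  have hr1 : r + 1 ≤ Fintype.card α := by omega
  obtain ⟨F, hF⟩ := Finset.exists_subset_card_eq (s := (Finset.univ : Finset α)) (n := r)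
    (by rw [Finset.card_univ]; omega)
  let GF : Subgroup (Perm α) := G ⊓ fixingSubgroup (Perm α) (F : Set α)
  have mGF : ∀ g, g ∈ GF ↔ g ∈ G ∧ ∀ y ∈ F, g y = y := fun g => by
    simp [GF, mem_fixingSubgroup_iff]
  obtain ⟨Q⟩ := (inferInstance : Nonempty (Sylow p GF))
  let P : Subgroup (Perm α) := (Q : Subgroup GF).map GF.subtype
  have hPGF : P ≤ GF := Subgroup.map_subtype_le _
  have htr : ∀ y z, y ∉ F → z ∉ F → ∃ g : GF, (g : Perm α) y = z := by
    intro y z hy hz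
    obtain ⟨g, hg, hgx⟩ := CfsgLib.SmallSupport.exists_map hr1 hG (insert y F)
      (by rw [Finset.card_insert_of_notMem hy, hF.2]) (fun x => if x = y then z else x)
      (by
        intro a ha b hb e
        simp only [Finset.coe_insert, Set.mem_insert_iff, Finset.mem_coe] at ha hb
        by_cases h1 : a = y <;> by_cases h2 : b = y
        · rw [h1, h2]
        · simp only [h1, h2, ite_true, ite_false] at e
          exact absurd (e ▸ hb.resolve_left h2) hz
        · simp only [h1, h2, ite_true, ite_false] at e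
          exact absurd (e ▸ ha.resolve_left h1) hz
        · simpa [h1, h2] using e)
    refine ⟨⟨g, (mGF g).2 ⟨hg, fun w hw => ?_⟩⟩, ?_⟩
    · rw [hgx w (Finset.mem_insert_of_mem hw), if_neg]
      rintro rfl; exact hy hw
    · show g y = z
      rw [hgx y (Finset.mem_insert_self _ _), if_pos rfl]
  have horbit : ∀ y, y ∉ F → Set.ncard (orbit GF y) = k * p := by
    intro y hy
    have : orbit GF y = ((Fᶜ : Finset α) : Set α) := by
      ext z
      rw [mem_orbit_iff, Finset.mem_coe, Finset.mem_compl]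
      constructor
      · rintro ⟨g, rfl⟩ hz
        exact hy ((show (g : Perm α) y = y from (g : Perm α).injective
          (((mGF _).1 g.2).2 _ hz)) ▸ hz)
      · exact fun hz => htr y z hy hz
    rw [this, Set.ncard_coe_finset, Finset.card_compl, hF.2, hn]
    omega
  have hP : IsPGroup p P := Q.isPGroup'.map _
  have horb : ∀ y, y ∉ F → (orb P y).card = p := by
    intro y hy
    have hsub : (orb P y : Set α) ⊆ orbit GF y := by
      intro z hz
      obtain ⟨u, hu, rfl⟩ := mem_orb.1 hz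
      exact ⟨⟨u, hPGF hu⟩, rfl⟩
    have hcard : (orb P y).card = Set.ncard (orbit P y) := by
      rw [orb, Set.ncard_eq_toFinset_card _ (Set.toFinite _)]
    obtain ⟨a, ha⟩ : ∃ a, (orb P y).card = p ^ a := by
      obtain ⟨n, hn'⟩ := IsPGroup.iff_card.1 hP
      have hd := (stabilizer P y).index_dvd_card
      rw [index_stabilizer, ← hcard, hn'] at hd
      obtain ⟨a, _, ha⟩ := (Nat.dvd_prime_pow hp).1 hd
      exact ⟨a, ha⟩
    have hle : (orb P y).card ≤ k * p := by
      rw [← horbit y hy, ← Set.ncard_coe_finset]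
      exact Set.ncard_le_ncard hsub (Set.toFinite _)
    have ha0 : a ≠ 0 := by
      intro e
      rw [e, pow_zero, Finset.card_eq_one] at ha
      obtain ⟨w, hw⟩ := ha
      have hfix : (Q : Subgroup GF) ≤ stabilizer GF y := by
        intro u hu
        have h1 : (u : Perm α) y ∈ orb P y := mem_orb.2 ⟨_, ⟨u, hu, rfl⟩, rfl⟩
        have h2 := self_mem_orb (P := P) y
        rw [hw, Finset.mem_singleton] at h1 h2
        exact h1.trans h2.symm
      have h3 := Subgroup.index_dvd_of_le hfix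
      rw [index_stabilizer, horbit y hy] at h3
      exact Q.not_dvd_index ((dvd_mul_left p k).trans h3)
    have ha1 : a < 2 := by
      by_contra h2
      have : p ^ 2 ≤ p ^ a := Nat.pow_le_pow_right hp.pos (by omega)
      have : k * p < p ^ 2 := by rw [sq]; exact Nat.mul_lt_mul_of_pos_right hpk hp.pos
      omega
    rw [ha, show a = 1 by omega, pow_one]
  refine ⟨F, P, hF.2, ⟨hp, hP, fun u hu y hy => ((mGF u).1 (hPGF hu)).2 y hy, horb⟩,
    hPGF.trans inf_le_left, fun σ => ?_⟩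
  obtain ⟨g, hg, hgx⟩ := CfsgLib.SmallSupport.exists_map hr1 hG F (by omega)
    (fun x => if hx : x ∈ F then (σ ⟨x, hx⟩).1 else x) (by
      intro a ha b hb e
      simp only [Finset.mem_coe] at ha hb
      simp only [dif_pos ha, dif_pos hb] at e
      exact congrArg Subtype.val (σ.injective (Subtype.ext e)))
  have hgF : ∀ x : F, g x.1 = (σ x).1 := fun x => by rw [hgx x.1 x.2, dif_pos x.2]
  have hgmem : ∀ y, y ∈ F → g y ∈ F := fun y hy => by rw [hgF ⟨y, hy⟩]; exact (σ _).2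
  have hgi : ∀ y, y ∈ F → g⁻¹ y ∈ F := fun y hy => by
    have h1 : g⁻¹ y = (σ.symm ⟨y, hy⟩).1 := by
      rw [Perm.inv_eq_iff_eq, hgF]; simp
    rw [h1]; exact (σ.symm _).2
  have hnorm : ∀ u, u ∈ GF ↔ g * u * g⁻¹ ∈ GF := by
    intro u
    rw [mGF, mGF]
    constructor
    · rintro ⟨h1, h2⟩
      refine ⟨G.mul_mem (G.mul_mem hg h1) (G.inv_mem hg), fun y hy => ?_⟩
      show g (u (g⁻¹ y)) = y
      rw [h2 _ (hgi y hy)]; simp
    · rintro ⟨h1, h2⟩
      refine ⟨?_, fun y hy => ?_⟩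
      · have := G.mul_mem (G.mul_mem (G.inv_mem hg) h1) hg
        simpa [mul_assoc] using this
      · have := h2 _ (hgmem y hy)
        simpa using this
  let φ : GF ≃* GF :=
    { toFun := fun u => ⟨g * u.1 * g⁻¹, (hnorm u.1).1 u.2⟩
      invFun := fun u => ⟨g⁻¹ * u.1 * g, (hnorm _).2 (by simp [mul_assoc])⟩
      left_inv := fun u => Subtype.ext (by simp [mul_assoc])
      right_inv := fun u => Subtype.ext (by simp [mul_assoc])
      map_mul' := fun u v => Subtype.ext (by simp [mul_assoc]) }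
  obtain ⟨t, ht⟩ := MulAction.exists_smul_eq GF (Q.comapOfInjective φ.symm.toMonoidHom
    φ.symm.injective (fun x _ => ⟨φ x, φ.symm_apply_apply x⟩)) Q
  have ht' := congrArg (fun S : Sylow p GF => (S : Subgroup GF)) ht
  refine ⟨t.1 * g, G.mul_mem ((mGF _).1 t.2).1 hg, mem_nP.2 fun u => ?_, fun x => ?_⟩
  · have key : ∀ u : GF, u ∈ (Q : Subgroup GF) ↔ t * φ u * t⁻¹ ∈ (Q : Subgroup GF) := by
      intro u
      conv_rhs => rw [← ht']
      simp only [Sylow.coe_subgroup_smul, Subgroup.mem_pointwise_smul_iff_inv_smul_mem]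
      simp [MulAut.smul_def, mul_assoc]
    have hPm : ∀ v, v ∈ P ↔ ∃ h : v ∈ GF, (⟨v, h⟩ : GF) ∈ (Q : Subgroup GF) := fun v => by
      constructor
      · rintro ⟨w, hw, rfl⟩
        exact ⟨w.2, hw⟩
      · rintro ⟨h, hv⟩
        exact ⟨⟨v, h⟩, hv, rfl⟩
    rw [hPm, hPm]
    have hassoc : t.1 * g * u * (t.1 * g)⁻¹ = t.1 * (g * u * g⁻¹) * t.1⁻¹ := by group
    constructor
    · rintro ⟨h, hu⟩
      have h2 : t.1 * g * u * (t.1 * g)⁻¹ ∈ GF := by
        rw [hassoc]; exact GF.mul_mem (GF.mul_mem t.2 ((hnorm u).1 h)) (GF.inv_mem t.2)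
      refine ⟨h2, ?_⟩
      convert (key ⟨u, h⟩).1 hu using 1
      exact Subtype.ext hassoc
    · rintro ⟨h2, hu⟩
      have h : u ∈ GF := (hnorm u).2 (by
        have := GF.mul_mem (GF.mul_mem (GF.inv_mem t.2) h2) t.2
        simpa [mul_assoc] using this)
      refine ⟨h, (key ⟨u, h⟩).2 ?_⟩
      convert hu using 1
      exact Subtype.ext hassoc.symm
  · show t.1 (g x.1) = (σ x).1
    rw [hgF, ((mGF _).1 t.2).2 _ (σ x).2]

theorem Setting.card_orbits (h : Setting p P F) {k : ℕ} (hn : Fintype.card α = k * p + F.card) :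
    ((Fᶜ : Finset α).image (orb P)).card = k := by
  classical
  have h1 := Finset.card_eq_sum_card_image (orb P) (Fᶜ : Finset α)
  have h2 : ∀ s ∈ (Fᶜ : Finset α).image (orb P),
      ((Fᶜ : Finset α).filter fun z => orb P z = s).card = p := by
    intro s hs
    obtain ⟨y, hy, rfl⟩ := Finset.mem_image.1 hs
    rw [Finset.mem_compl] at hy
    rw [← h.card_orb y hy]
    congr 1
    ext z
    rw [Finset.mem_filter, Finset.mem_compl]
    exact ⟨fun ⟨_, e⟩ => e ▸ self_mem_orb z,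
      fun e => ⟨h.not_mem_of_mem_orb hy e, orb_eq_of_mem e⟩⟩
  rw [Finset.sum_congr rfl h2, Finset.sum_const, smul_eq_mul, Finset.card_compl, hn] at h1
  exact Nat.eq_of_mul_eq_mul_right h.prime.pos (by omega)

theorem Setting.three_orbits (h : Setting p P F) {k : ℕ} (hn : Fintype.card α = k * p + F.card)
    (hk : k ≤ 3) : ∀ y₁ y₂ y₃, y₁ ∉ F → y₂ ∉ F → y₃ ∉ F → y₂ ∉ orb P y₁ → y₃ ∉ orb P y₁ →
      y₃ ∉ orb P y₂ → ∀ z, z ∉ F → z ∈ orb P y₁ ∨ z ∈ orb P y₂ ∨ z ∈ orb P y₃ := by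
  classical
  intro y₁ y₂ y₃ h1 h2 h3 h12 h13 h23 z hz
  by_contra hc
  push Not at hc
  have inj : ∀ a b, b ∉ orb P a → orb P a ≠ orb P b := fun a b hb e => hb (e ▸ self_mem_orb b)
  have hsub : {orb P y₁, orb P y₂, orb P y₃, orb P z} ⊆ (Fᶜ : Finset α).image (orb P) := by
    intro s hs
    simp only [Finset.mem_insert, Finset.mem_singleton] at hs
    rcases hs with rfl | rfl | rfl | rfl <;>
      exact Finset.mem_image_of_mem _ (Finset.mem_compl.2 (by assumption))
  have := Finset.card_le_card hsub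
  rw [h.card_orbits hn, Finset.card_insert_of_notMem, Finset.card_insert_of_notMem,
    Finset.card_pair (inj _ _ hc.2.2)] at this
  · omega
  · simp [inj _ _ h23, inj _ _ hc.2.1]
  · simp [inj _ _ h12, inj _ _ h13, inj _ _ hc.1]

theorem decide_four : ∀ x : Perm (Fin 4), x ≠ 1 → ∃ a h : Perm (Fin 4),
    let y := a * x * a⁻¹ * x⁻¹
    let c := (h * y * h⁻¹)⁻¹ * y
    c ≠ 1 ∧ c ^ 2 = 1 := by
  decide +kernel

theorem decide_three : ∀ x : Perm (Fin 3), x ≠ 1 → ∃ a h : Perm (Fin 3),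
    let y := a * x * a⁻¹ * x⁻¹
    let c := (h * y * h⁻¹)⁻¹ * y
    c ≠ 1 ∧ c ^ 3 = 1 := by
  decide +kernel

theorem decide_pair : ∃ a b : Perm (Fin 4), Perm.sign a = 1 ∧ Perm.sign b = 1 ∧
    (b * a)⁻¹ * (a * b) ≠ 1 ∧ ((b * a)⁻¹ * (a * b)) ^ 2 = 1 := by
  decide +kernel

theorem small_case {N : Subgroup (Perm F)} [hN : N.Normal] {m e : ℕ} (hF : F.card = m)
    (hdec : ∀ x : Perm (Fin m), x ≠ 1 → ∃ a h : Perm (Fin m),
      (h * (a * x * a⁻¹ * x⁻¹) * h⁻¹)⁻¹ * (a * x * a⁻¹ * x⁻¹) ≠ 1 ∧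
      ((h * (a * x * a⁻¹ * x⁻¹) * h⁻¹)⁻¹ * (a * x * a⁻¹ * x⁻¹)) ^ e = 1)
    (hne : N ≠ ⊥) : ∃ y ∈ N, ∃ h : Perm F,
      (h * y * h⁻¹)⁻¹ * y ≠ 1 ∧ ((h * y * h⁻¹)⁻¹ * y) ^ e = 1 := by
  obtain ⟨x, hx, hx1⟩ := N.bot_or_exists_ne_one.resolve_left hne
  let ε : Perm F ≃* Perm (Fin m) :=
    (F.equivFinOfCardEq hF).permCongrHom
  obtain ⟨a, h, h1, h2⟩ := hdec (ε x) (fun e' => hx1 (ε.injective (e'.trans ε.map_one.symm)))
  refine ⟨ε.symm a * x * (ε.symm a)⁻¹ * x⁻¹, N.mul_mem (hN.conj_mem x hx _) (N.inv_mem hx),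
    ε.symm h, fun e' => h1 ?_, ε.injective ?_⟩
  · have := congrArg ε e'
    simpa [mul_assoc] using this
  · simpa [mul_assoc] using h2

theorem large_case {N : Subgroup (Perm F)} [N.Normal] (hF : 5 ≤ F.card) (hne : N ≠ ⊥) :
    ∃ a ∈ N, ∃ b ∈ N, (b * a)⁻¹ * (a * b) ≠ 1 ∧ ((b * a)⁻¹ * (a * b)) ^ 2 = 1 := by
  classical
  have hle : alternatingGroup F ≤ N := Perm.alternatingGroup_le_of_normal
    (by rwa [Nat.card_eq_fintype_card, Fintype.card_coe])
    ((Subgroup.nontrivial_iff_ne_bot N).2 hne)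
  obtain ⟨a, b, ha, hb, h1, h2⟩ := decide_pair
  obtain ⟨ι⟩ := Function.Embedding.nonempty_of_card_le (α := Fin 4) (β := F)
    (by rw [Fintype.card_fin, Fintype.card_coe]; omega)
  let f : Perm (Fin 4) →* Perm F :=
    Perm.extendDomainHom (Equiv.ofInjective ι ι.injective)
  have hf : Function.Injective f := Perm.extendDomainHom_injective _
  have hs : ∀ c, Perm.sign c = 1 → f c ∈ N := fun c hc => hle (Perm.mem_alternatingGroup.2
    ((Perm.sign_extendDomain c _).trans hc))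
  refine ⟨f a, hs a ha, f b, hs b hb, fun e => h1 (hf ?_), ?_⟩
  · simpa using e
  · simpa using congrArg f h2

end CfsgLib.Perm.KPR
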