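import Mathlib

/-!
A `p`-group of permutations whose nontrivial orbits all have `p` points, and the permutations
normalizing it and fixing each of these orbits.
-/

set_option autoImplicit false
set_option linter.style.haveILetI false
set_option linter.unusedSectionVars false

namespace CfsgLib.Perm.KPR

open Equiv MulAction

variable {α : Type*} [Fintype α] [DecidableEq α]

/-- The orbit of `y` under `P`, as a finset. -/
noncomputable def orb (P : Subgroup (Perm α)) (y : α) : Finset α :=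
  (Set.toFinite (orbit P y)).toFinset

theorem mem_orb {P : Subgroup (Perm α)} {y z : α} : z ∈ orb P y ↔ ∃ u ∈ P, u y = z := by
  rw [orb, Set.Finite.mem_toFinset, mem_orbit_iff]
  exact ⟨fun ⟨u, hu⟩ => ⟨u, u.2, hu⟩, fun ⟨u, hu, h⟩ => ⟨⟨u, hu⟩, h⟩⟩

/-- `P` is a `p`-group fixing `F` pointwise with all other orbits of length `p`. -/
structure Setting (p : ℕ) (P : Subgroup (Perm α)) (F : Finset α) : Prop where
  prime : p.Prime
  isP : IsPGroup p P
  fix : ∀ u ∈ P, ∀ y ∈ F, u y = y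
  card_orb : ∀ y, y ∉ F → (orb P y).card = p

variable {p : ℕ} {P : Subgroup (Perm α)} {F : Finset α}

theorem self_mem_orb (y : α) : y ∈ orb P y := mem_orb.2 ⟨1, P.one_mem, rfl⟩

theorem orb_eq_of_mem {y z : α} (hz : z ∈ orb P y) : orb P z = orb P y := by
  obtain ⟨u, hu, rfl⟩ := mem_orb.1 hz
  ext w
  rw [mem_orb, mem_orb]
  constructor
  · rintro ⟨v, hv, rfl⟩
    exact ⟨v * u, P.mul_mem hv hu, rfl⟩
  · rintro ⟨v, hv, rfl⟩
    exact ⟨v * u⁻¹, P.mul_mem hv (P.inv_mem hu), by simp⟩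

theorem apply_mem_orb {u : Perm α} (hu : u ∈ P) {y z : α} (hz : z ∈ orb P y) : u z ∈ orb P y := by
  rw [← orb_eq_of_mem hz]
  exact mem_orb.2 ⟨u, hu, rfl⟩

theorem Setting.not_mem_of_mem_orb (h : Setting p P F) {y z : α} (hy : y ∉ F) (hz : z ∈ orb P y) :
    z ∉ F := by
  intro hzF
  obtain ⟨u, hu, rfl⟩ := mem_orb.1 hz
  have h1 := h.fix _ (P.inv_mem hu) _ hzF
  rw [Perm.inv_eq_iff_eq] at h1
  exact hy (u.injective h1 ▸ hzF)

theorem Setting.exists_moves (h : Setting p P F) {y : α} (hy : y ∉ F) :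
    ∃ u ∈ P, u y ≠ y := by
  by_contra hc
  push Not at hc
  have : orb P y = {y} := by
    ext z
    rw [mem_orb, Finset.mem_singleton]
    exact ⟨fun ⟨u, hu, e⟩ => e ▸ hc u hu, fun e => ⟨1, P.one_mem, e.symm⟩⟩
  have h2 := h.card_orb y hy
  rw [this, Finset.card_singleton] at h2
  exact h.prime.one_lt.ne h2

theorem Setting.stabilizer_spec (h : Setting p P F) {y : α} (hy : y ∉ F) :
    (stabilizer P y).Normal ∧ (stabilizer P y).index = p := by
  haveI := Fact.mk h.prime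
  have hidx : (stabilizer P y).index = p := by
    rw [index_stabilizer, Set.ncard_eq_toFinset_card _ (Set.toFinite _)]
    exact h.card_orb y hy
  refine ⟨Subgroup.normal_of_index_eq_minFac_card ?_, hidx⟩
  obtain ⟨n, hn⟩ := IsPGroup.iff_card.1 h.isP
  have hd := (stabilizer P y).index_dvd_card
  rw [hidx, hn] at hd
  rw [hidx, hn, Nat.Prime.pow_minFac h.prime]
  rintro rfl
  exact h.prime.not_dvd_one (by simpa using hd)

theorem Setting.fix_orbit (h : Setting p P F) {y z : α} (hy : y ∉ F) {u : Perm α} (hu : u ∈ P)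
    (huy : u y = y) (hz : z ∈ orb P y) : u z = z := by
  obtain ⟨v, hv, rfl⟩ := mem_orb.1 hz
  have := (h.stabilizer_spec hy).1.conj_mem ⟨u, hu⟩ huy ⟨v⁻¹, P.inv_mem hv⟩
  have h1 : v⁻¹ (u (v y)) = y := by simpa [mem_stabilizer_iff, Subgroup.smul_def] using this
  exact (Perm.inv_eq_iff_eq.1 h1)

theorem Setting.pow_prime_apply (h : Setting p P F) {u : Perm α} (hu : u ∈ P) (z : α) :
    (u ^ p) z = z := by
  by_cases hz : z ∈ F
  · exact h.fix _ (P.pow_mem hu p) _ hz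
  · obtain ⟨hn, hidx⟩ := h.stabilizer_spec hz
    haveI := hn
    have := Subgroup.pow_index_mem (stabilizer P z) (⟨u, hu⟩ : P)
    rw [hidx] at this
    simpa [mem_stabilizer_iff, Subgroup.smul_def] using this

theorem Setting.gen_orbit (h : Setting p P F) {y : α} (hy : y ∉ F) {u : Perm α} (hu : u ∈ P)
    (huy : u y ≠ y) {v : Perm α} (hv : v ∈ P) :
    ∃ m : ℕ, ∀ z ∈ orb P y, v z = (u ^ m) z := by
  haveI := Fact.mk h.prime
  obtain ⟨hn, hidx⟩ := h.stabilizer_spec hy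
  haveI := hn
  have hc : Nat.card (P ⧸ stabilizer P y) = p := by rw [← Subgroup.index_eq_card, hidx]
  have h1 : ((⟨u, hu⟩ : P) : P ⧸ stabilizer P y) ≠ 1 := fun e => huy (by
    simpa [mem_stabilizer_iff, Subgroup.smul_def] using (QuotientGroup.eq_one_iff _).1 e)
  obtain ⟨m, hm⟩ := (mem_powers_iff_mem_zpowers.2
    (mem_zpowers_of_prime_card hc (g' := ((⟨v, hv⟩ : P) : P ⧸ stabilizer P y)) h1))
  refine ⟨m, fun z hz => ?_⟩
  have h2 : ((⟨u, hu⟩ : P) ^ m)⁻¹ * ⟨v, hv⟩ ∈ stabilizer P y := by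
    rw [← QuotientGroup.eq, QuotientGroup.mk_pow]
    exact hm
  have h3 := h.fix_orbit hy (u := (u ^ m)⁻¹ * v) (P.mul_mem (P.inv_mem (P.pow_mem hu m)) hv)
    (by simpa [mem_stabilizer_iff, Subgroup.smul_def] using h2) hz
  exact Perm.inv_eq_iff_eq.1 h3

/-- `a` and `b` agree on the orbit of `y`. -/
def Agree (P : Subgroup (Perm α)) (y : α) (a b : Perm α) : Prop := ∀ z ∈ orb P y, a z = b z

theorem Agree.pow {y : α} {a b : Perm α} (h : Agree P y a b) (hb : b ∈ P) (m : ℕ) :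
    Agree P y (a ^ m) (b ^ m) := by
  induction m with
  | zero => intro z _; simp
  | succ m ih =>
    intro z hz
    rw [pow_succ, pow_succ, Perm.mul_apply, Perm.mul_apply, h z hz]
    exact ih _ (apply_mem_orb hb hz)

theorem Agree.trans {y : α} {a b c : Perm α} (h : Agree P y a b) (h' : Agree P y b c) :
    Agree P y a c := fun z hz => (h z hz).trans (h' z hz)

theorem Agree.symm {y : α} {a b : Perm α} (h : Agree P y a b) : Agree P y b a :=
  fun z hz => (h z hz).symm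

/-- Permutations normalizing `P`. -/
def nP (P : Subgroup (Perm α)) : Subgroup (Perm α) := Subgroup.normalizer (P : Set (Perm α))

theorem mem_nP {g : Perm α} : g ∈ nP P ↔ ∀ u, u ∈ P ↔ g * u * g⁻¹ ∈ P :=
  Subgroup.mem_normalizer_iff

theorem image_orb {g : Perm α} (hg : g ∈ nP P) (y : α) :
    (orb P y).map g.toEmbedding = orb P (g y) := by
  ext z
  simp only [Finset.mem_map, Equiv.coe_toEmbedding, mem_orb]
  constructor
  · rintro ⟨_, ⟨u, hu, rfl⟩, rfl⟩
    exact ⟨g * u * g⁻¹, (mem_nP.1 hg u).1 hu, by simp⟩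
  · rintro ⟨u, hu, rfl⟩
    refine ⟨(g⁻¹ * u * g) y, ⟨g⁻¹ * u * g, (mem_nP.1 hg _).2 ?_, rfl⟩, by simp⟩
    have : g * (g⁻¹ * u * g) * g⁻¹ = u := by group
    rwa [this]

theorem Setting.apply_mem_iff (h : Setting p P F) {g : Perm α} (hg : g ∈ nP P) (y : α) :
    g y ∈ F ↔ y ∈ F := by
  have key : ∀ z, z ∈ F ↔ (orb P z).card = 1 := fun z => by
    constructor
    · intro hz
      rw [Finset.card_eq_one]
      refine ⟨z, Finset.ext fun w => ?_⟩
      rw [mem_orb, Finset.mem_singleton]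
      exact ⟨fun ⟨u, hu, e⟩ => e ▸ h.fix u hu z hz, fun e => ⟨1, P.one_mem, e.symm⟩⟩
    · intro h1
      by_contra hz
      rw [h.card_orb z hz] at h1
      exact h.prime.one_lt.ne' h1
  rw [key, key, ← image_orb hg, Finset.card_map]

/-- The permutation `x` normalizes `P` and fixes each orbit outside `F`. -/
def Stable (P : Subgroup (Perm α)) (F : Finset α) (x : Perm α) : Prop :=
  x ∈ nP P ∧ ∀ y, y ∉ F → x y ∈ orb P y

theorem Stable.inv (h : Setting p P F) {x : Perm α} (hx : Stable P F x) : Stable P F x⁻¹ := by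
  refine ⟨inv_mem hx.1, fun y hy => ?_⟩
  have hy' : x⁻¹ y ∉ F := fun e => hy (by simpa using (h.apply_mem_iff hx.1 _).2 e)
  have h1 := hx.2 _ hy'
  rw [show x (x⁻¹ y) = y by simp] at h1
  rw [orb_eq_of_mem h1]
  exact self_mem_orb _

theorem Stable.mul (h : Setting p P F) {x x' : Perm α} (hx : Stable P F x) (hx' : Stable P F x') :
    Stable P F (x * x') := by
  refine ⟨mul_mem hx.1 hx'.1, fun y hy => ?_⟩
  have h1 := hx.2 _ (h.not_mem_of_mem_orb hy (hx'.2 y hy))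
  rwa [orb_eq_of_mem (hx'.2 y hy)] at h1

theorem Stable.apply_mem {x : Perm α} (hx : Stable P F x) (h : Setting p P F) {y z : α} (hy : y ∉ F)
    (hz : z ∈ orb P y) : x z ∈ orb P y := by
  rw [← orb_eq_of_mem hz]
  exact hx.2 z (h.not_mem_of_mem_orb hy hz)

theorem Agree.conj {y : α} {a b x : Perm α} (h : Setting p P F) (hx : Stable P F x) (hy : y ∉ F)
    (hab : Agree P y a b) : Agree P y (x * a * x⁻¹) (x * b * x⁻¹) := fun z hz => by
  show x (a (x⁻¹ z)) = x (b (x⁻¹ z))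
  rw [hab _ ((hx.inv h).apply_mem h hy hz)]

theorem Setting.exists_multiplier (h : Setting p P F) {x : Perm α} (hx : Stable P F x) {y : α}
    (hy : y ∉ F) : ∃ c : ℕ, ∀ v ∈ P, Agree P y (x * v * x⁻¹) (v ^ c) := by
  obtain ⟨u, hu, huy⟩ := h.exists_moves hy
  obtain ⟨c, hc⟩ := h.gen_orbit hy hu huy ((mem_nP.1 hx.1 u).1 hu)
  refine ⟨c, fun v hv => ?_⟩
  obtain ⟨m, hm⟩ := h.gen_orbit hy hu huy hv
  have h1 : Agree P y (x * v * x⁻¹) (x * u ^ m * x⁻¹) := Agree.conj h hx hy hm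
  rw [← conj_pow] at h1
  have h2 : Agree P y ((x * u * x⁻¹) ^ m) ((u ^ c) ^ m) := Agree.pow hc (P.pow_mem hu c) m
  rw [← pow_mul, mul_comm c m, pow_mul] at h2
  exact (h1.trans h2).trans ((Agree.pow hm (P.pow_mem hu m) c).symm)

theorem Setting.ext_agree (h : Setting p P F) {a b : Perm α} (ha : ∀ z ∈ F, a z = b z)
    (hab : ∀ y, y ∉ F → Agree P y a b) : a = b :=
  Equiv.ext fun z => if hz : z ∈ F then ha z hz else hab z hz z (self_mem_orb z)

theorem Setting.conj_commute (h : Setting p P F) {x x' : Perm α} (hx : Stable P F x)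
    (hx' : Stable P F x') {v : Perm α} (hv : v ∈ P) :
    Commute ((x' * x)⁻¹ * (x * x')) v := by
  suffices e : (x * x') * v * (x * x')⁻¹ = (x' * x) * v * (x' * x)⁻¹ by
    show _ * _ = _ * _
    calc (x' * x)⁻¹ * (x * x') * v
        = (x' * x)⁻¹ * ((x * x') * v * (x * x')⁻¹) * (x * x') := by group
      _ = (x' * x)⁻¹ * ((x' * x) * v * (x' * x)⁻¹) * (x * x') := by rw [e]
      _ = v * ((x' * x)⁻¹ * (x * x')) := by group
  have hP : ∀ {g : Perm α}, g ∈ nP P → g * v * g⁻¹ ∈ P := fun hg => (mem_nP.1 hg v).1 hv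
  refine h.ext_agree (fun z hz => ?_) fun y hy => ?_
  · rw [h.fix _ (hP (mul_mem hx.1 hx'.1)) z hz, h.fix _ (hP (mul_mem hx'.1 hx.1)) z hz]
  obtain ⟨c, hc⟩ := h.exists_multiplier hx hy
  obtain ⟨d, hd⟩ := h.exists_multiplier hx' hy
  have two : ∀ {a b : Perm α}, Stable P F a → ∀ {i j : ℕ},
      (∀ v ∈ P, Agree P y (a * v * a⁻¹) (v ^ i)) → Agree P y (b * v * b⁻¹) (v ^ j) →
      Agree P y ((a * b) * v * (a * b)⁻¹) (v ^ (i * j)) := by
    intro a b ha i j hi hj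
    have h1 := Agree.conj h ha hy hj
    have h2 := hi _ (P.pow_mem hv j)
    rw [show (v ^ j) ^ i = v ^ (i * j) by rw [← pow_mul, mul_comm]] at h2
    have h3 : a * b * v * (a * b)⁻¹ = a * (b * v * b⁻¹) * a⁻¹ := by group
    rw [h3]
    exact h1.trans h2
  have h1 := two hx hc (hd v hv)
  have h2 := two hx' hd (hc v hv)
  rw [mul_comm d c] at h2
  exact h1.trans h2.symm

/-- No nonidentity element of `P` is supported by a single orbit. -/
def NoSingle (P : Subgroup (Perm α)) (F : Finset α) : Prop :=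
  ∀ v ∈ P, ∀ y, y ∉ F → (∀ z, z ∉ orb P y → v z = z) → v = 1

/-- With at most three orbits and none of them supporting an element alone, a stable element
induces a power automorphism of `P`. -/
theorem Setting.exists_power (h : Setting p P F) (hns : NoSingle P F)
    (hthree : ∀ y₁ y₂ y₃, y₁ ∉ F → y₂ ∉ F → y₃ ∉ F → y₂ ∉ orb P y₁ → y₃ ∉ orb P y₁ →
      y₃ ∉ orb P y₂ → ∀ z, z ∉ F → z ∈ orb P y₁ ∨ z ∈ orb P y₂ ∨ z ∈ orb P y₃)
    {y₁ : α} (hy₁ : y₁ ∉ F) {x : Perm α} (hx : Stable P F x) :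
    ∃ c : ℕ, ∀ v ∈ P, x * v * x⁻¹ = v ^ c := by
  have hP : ∀ v ∈ P, x * v * x⁻¹ ∈ P := fun v hv => (mem_nP.1 hx.1 v).1 hv
  have hw : ∀ v ∈ P, ∀ c : ℕ, x * v * x⁻¹ * (v ^ c)⁻¹ ∈ P := fun v hv c =>
    P.mul_mem (hP v hv) (P.inv_mem (P.pow_mem hv c))
  have fixw : ∀ v ∈ P, ∀ (c : ℕ) (y : α), Agree P y (x * v * x⁻¹) (v ^ c) →
      ∀ z ∈ orb P y, (x * v * x⁻¹ * (v ^ c)⁻¹) z = z := by
    intro v hv c y ha z hz
    rw [Perm.mul_apply, ha _ (apply_mem_orb (P.inv_mem (P.pow_mem hv c)) hz)]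
    simp
  obtain ⟨c₁, hc₁⟩ := h.exists_multiplier hx hy₁
  by_cases hD : ∀ v ∈ P, v y₁ = y₁ → v = 1
  · exact ⟨c₁, fun v hv => mul_inv_eq_one.1
      (hD _ (hw v hv c₁) (fixw v hv c₁ y₁ (hc₁ v hv) y₁ (self_mem_orb y₁)))⟩
  push Not at hD
  obtain ⟨d, hd, hdy, hd1⟩ := hD
  have hd1fix : ∀ z ∈ orb P y₁, d z = z := fun z hz => h.fix_orbit hy₁ hd hdy hz
  obtain ⟨y₂, hy₂⟩ : ∃ y, d y ≠ y := by
    by_contra hc
    push Not at hc
    exact hd1 (Equiv.ext hc)
  have hy₂F : y₂ ∉ F := fun e => hy₂ (h.fix d hd _ e)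
  obtain ⟨y₃, hy₃o, hy₃⟩ : ∃ y, y ∉ orb P y₂ ∧ d y ≠ y := by
    by_contra hc
    push Not at hc
    exact hd1 (hns d hd y₂ hy₂F hc)
  have hy₃F : y₃ ∉ F := fun e => hy₃ (h.fix d hd _ e)
  have hall := hthree y₁ y₂ y₃ hy₁ hy₂F hy₃F (fun e => hy₂ (hd1fix _ e))
    (fun e => hy₃ (hd1fix _ e)) hy₃o
  obtain ⟨c₂, hc₂⟩ := h.exists_multiplier hx hy₂F
  obtain ⟨c₃, hc₃⟩ := h.exists_multiplier hx hy₃F
  have supp3 : ∀ w ∈ P, (∀ z ∈ orb P y₁, w z = z) → (∀ z ∈ orb P y₂, w z = z) → w = 1 := by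
    intro w hw' a b
    refine hns w hw' y₃ hy₃F fun z hz => ?_
    by_cases hzF : z ∈ F
    · exact h.fix w hw' z hzF
    · rcases hall z hzF with e | e | e
      · exact a z e
      · exact b z e
      · exact absurd e hz
  have hdc : x * d * x⁻¹ = d ^ c₂ := by
    refine mul_inv_eq_one.1 (supp3 _ (hw d hd c₂) (fun z hz => ?_) (fixw d hd c₂ y₂ (hc₂ d hd)))
    have h1 : ∀ w ∈ orb P y₁, (d ^ c₂)⁻¹ w = w := fun w hw' => by
      have : ∀ n : ℕ, (d ^ n) w = w := fun n => by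
        induction n with
        | zero => simp
        | succ n ih => rw [pow_succ, Perm.mul_apply, hd1fix w hw', ih]
      rw [Perm.inv_eq_iff_eq, this]
    rw [Perm.mul_apply, h1 z hz]
    show x (d (x⁻¹ z)) = z
    rw [hd1fix _ ((hx.inv h).apply_mem h hy₁ hz)]
    simp
  have hag : Agree P y₃ (d ^ c₂) (d ^ c₃) := hdc ▸ hc₃ d hd
  refine ⟨c₂, fun v hv => ?_⟩
  obtain ⟨m, hm⟩ := h.gen_orbit hy₃F hd hy₃ hv
  have h3 : Agree P y₃ (x * v * x⁻¹) (v ^ c₂) := by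
    have a1 : Agree P y₃ (v ^ c₃) ((d ^ m) ^ c₃) := Agree.pow hm (P.pow_mem hd m) c₃
    have a2 : Agree P y₃ (v ^ c₂) ((d ^ m) ^ c₂) := Agree.pow hm (P.pow_mem hd m) c₂
    have a3 : Agree P y₃ ((d ^ c₂) ^ m) ((d ^ c₃) ^ m) := Agree.pow hag (P.pow_mem hd c₃) m
    rw [← pow_mul, mul_comm, pow_mul] at a3
    rw [← pow_mul d c₃ m, mul_comm c₃ m, pow_mul] at a3
    exact (hc₃ v hv).trans ((a1.trans a3.symm).trans a2.symm)
  refine mul_inv_eq_one.1 (hns _ (hw v hv c₂) y₁ hy₁ fun z hz => ?_)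
  by_cases hzF : z ∈ F
  · exact h.fix _ (hw v hv c₂) z hzF
  · rcases hall z hzF with e | e | e
    · exact absurd e hz
    · exact fixw v hv c₂ y₂ (hc₂ v hv) z e
    · exact fixw v hv c₂ y₃ h3 z e

theorem Setting.pow_apply_of_commute (h : Setting p P F) {g : Perm α} (hg : Stable P F g)
    (hc : ∀ v ∈ P, Commute g v) {y : α} (hy : y ∉ F) : (g ^ p) y = y := by
  obtain ⟨u, hu, huy⟩ := mem_orb.1 (hg.2 y hy)
  have : ∀ n : ℕ, (g ^ n) y = (u ^ n) y := fun n => by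
    induction n with
    | zero => simp
    | succ n ih =>
      rw [pow_succ, Perm.mul_apply, ← huy, pow_succ']
      show (g ^ n * u) y = _
      rw [((hc u hu).pow_left n).eq, Perm.mul_apply, ih, Perm.mul_apply]
  rw [this, h.pow_prime_apply hu]

end CfsgLib.Perm.KPR
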